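import Mathlib.AlgebraicGeometry.Morphisms.Flat
import Mathlib.RingTheory.Flat.FaithfullyFlat.Algebra

/-!
# Cancelling a faithfully flat map on the left
-/

universe u

open AlgebraicGeometry CategoryTheory TensorProduct

namespace Groth.Agent.Thick.FlatCancel

/-- If `A → B → C` with `B → C` faithfully flat and `A → C` flat, then `A → B` is flat. -/
theorem module_flat_of_comp (A B C : Type u) [CommRing A] [CommRing B] [CommRing C]
    [Algebra A B] [Algebra B C] [Algebra A C] [IsScalarTower A B C]
    [Module.FaithfullyFlat B C] [Module.Flat A C] : Module.Flat A B := by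
  rw [Module.Flat.iff_lTensor_preserves_injective_linearMap]
  intro N P _ _ _ _ f hf
  let g := AlgebraTensorModule.lTensor B B f
  suffices h : Function.Injective g from h
  rw [← Module.FaithfullyFlat.lTensor_injective_iff_injective B C]
  have hC : Function.Injective (f.lTensor C) := Module.Flat.lTensor_preserves_injective_linearMap f hf
  have e : ⇑(g.lTensor C) = (AlgebraTensorModule.cancelBaseChange A B B C P).symm ∘
      (f.lTensor C) ∘ (AlgebraTensorModule.cancelBaseChange A B B C N) := by
    have : (AlgebraTensorModule.cancelBaseChange A B B C P).toLinearMap ∘ₗ g.lTensor C =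
        AlgebraTensorModule.lTensor B C f ∘ₗ
          (AlgebraTensorModule.cancelBaseChange A B B C N).toLinearMap := by
      ext c n
      simp [g]
    funext x
    apply (AlgebraTensorModule.cancelBaseChange A B B C P).injective
    simpa using LinearMap.congr_fun this x
  rw [e]
  exact (LinearEquiv.injective _).comp (hC.comp (LinearEquiv.injective _))

theorem flat_stalkMap_of_comp {X Y Z : Scheme.{u}} (f : X ⟶ Y) (g : Y ⟶ Z) (x : X)
    (hf : (f.stalkMap x).hom.Flat) (hfg : ((f ≫ g).stalkMap x).hom.Flat) :
    (g.stalkMap (f x)).hom.Flat := by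
  let _ : Algebra (Z.presheaf.stalk (g (f x))) (Y.presheaf.stalk (f x)) :=
    (g.stalkMap (f x)).hom.toAlgebra
  let _ : Algebra (Y.presheaf.stalk (f x)) (X.presheaf.stalk x) := (f.stalkMap x).hom.toAlgebra
  let _ : Algebra (Z.presheaf.stalk (g (f x))) (X.presheaf.stalk x) :=
    (g.stalkMap (f x) ≫ f.stalkMap x).hom.toAlgebra
  have : IsScalarTower (Z.presheaf.stalk (g (f x))) (Y.presheaf.stalk (f x))
      (X.presheaf.stalk x) := .of_algebraMap_eq' rfl
  have hfg' : (g.stalkMap (f x) ≫ f.stalkMap x).hom.Flat := by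
    rw [Scheme.Hom.stalkMap_comp] at hfg; exact hfg
  have : Module.Flat (Z.presheaf.stalk (g (f x))) (X.presheaf.stalk x) := hfg'
  have : Module.Flat (Y.presheaf.stalk (f x)) (X.presheaf.stalk x) := hf
  have : IsLocalHom (algebraMap (Y.presheaf.stalk (f x)) (X.presheaf.stalk x)) :=
    inferInstanceAs (IsLocalHom (f.stalkMap x).hom)
  have := Module.FaithfullyFlat.of_flat_of_isLocalHom (A := Y.presheaf.stalk (f x))
    (B := X.presheaf.stalk x)
  exact module_flat_of_comp (Z.presheaf.stalk (g (f x))) _ (X.presheaf.stalk x)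

theorem flat_of_comp {X Y Z : Scheme.{u}} (f : X ⟶ Y) (g : Y ⟶ Z) [Flat f] [Surjective f]
    [Flat (f ≫ g)] : Flat g := by
  refine Flat.of_stalkMap _ fun y => ?_
  obtain ⟨x, rfl⟩ := f.surjective y
  exact flat_stalkMap_of_comp f g x (Flat.stalkMap f x) (Flat.stalkMap (f ≫ g) x)

end Groth.Agent.Thick.FlatCancel
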