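import Groth.Prelude.Def_MoreMor
import Mathlib.AlgebraicGeometry.ZariskisMainTheorem
import Mathlib.AlgebraicGeometry.PullbackCarrier

/-!
# Thickenings: topological lemmas

A thickening (surjective closed immersion) is universally a homeomorphism; topological properties of
morphisms pass through thickenings.
-/

universe u

open AlgebraicGeometry CategoryTheory Limits MorphismProperty

namespace Groth.Agent.Thick.Topo

variable {X X' S S' Y : Scheme.{u}}

theorem isHomeomorph (i : X ⟶ X') [IsClosedImmersion i] [Surjective i] : IsHomeomorph i :=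
  isHomeomorph_iff_isEmbedding_surjective.mpr ⟨i.isClosedEmbedding.isEmbedding, i.surjective⟩

theorem universallyOpen (i : X ⟶ X') [IsClosedImmersion i] [Surjective i] : UniversallyOpen i := by
  constructor
  intro P Q i₁ i₂ p hp
  have hp₁ : IsClosedImmersion p := MorphismProperty.of_isPullback hp.flip inferInstance
  have hp₂ : Surjective p := MorphismProperty.of_isPullback hp.flip inferInstance
  exact (isHomeomorph p).isOpenMap

/-- A property stable under base change cancels monomorphisms on the right. -/
theorem of_comp_mono {P : MorphismProperty Scheme.{u}} [P.IsStableUnderBaseChange]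
    (f : X ⟶ Y) (g : Y ⟶ S) [Mono g] (h : P (f ≫ g)) : P f :=
  MorphismProperty.of_isPullback
    (show IsPullback (𝟙 X) f (f ≫ g) g from
      ⟨⟨by simp⟩, ⟨PullbackCone.IsLimit.mk _ (fun s => s.fst) (fun s => by simp)
        (fun s => by rw [← cancel_mono g, Category.assoc]; exact s.condition)
        (fun s m h1 _ => by simpa using h1)⟩⟩) h

theorem universallyOpen_of_comp_surjective (f : X ⟶ Y) (g : Y ⟶ S) [Surjective f]
    [UniversallyOpen (f ≫ g)] : UniversallyOpen g := by
  constructor
  intro X' Y' i₁ i₂ f' H
  have h := UniversallyOpen.universally_isOpenMap (f := f ≫ g) _ _ _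
    ((IsPullback.of_hasPullback i₁ f).paste_horiz H)
  have hs : Surjective (pullback.fst i₁ f) := MorphismProperty.of_isPullback (IsPullback.of_hasPullback i₁ f).flip ‹Surjective f›
  intro U hU
  rw [← hs.surj.image_preimage U, ← Set.image_comp]
  exact h _ (hU.preimage (pullback.fst i₁ f).continuous)

theorem universallyInjective_of_comp_surjective (f : X ⟶ Y) (g : Y ⟶ S) [Surjective f]
    [UniversallyInjective (f ≫ g)] : UniversallyInjective g := by
  constructor
  intro X' Y' i₁ i₂ f' H
  have h := UniversallyInjective.universally_injective (f := f ≫ g) _ _ _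
    ((IsPullback.of_hasPullback i₁ f).paste_horiz H)
  have hs : Surjective (pullback.fst i₁ f) := MorphismProperty.of_isPullback (IsPullback.of_hasPullback i₁ f).flip ‹Surjective f›
  intro a b e
  obtain ⟨a, rfl⟩ := hs.surj a
  obtain ⟨b, rfl⟩ := hs.surj b
  exact congrArg _ (h (a₁ := a) (a₂ := b) e)

theorem quasiCompact_of_comp_surjective (f : X ⟶ Y) (g : Y ⟶ S) [Surjective f]
    [QuasiCompact (f ≫ g)] : QuasiCompact g where
  isCompact_preimage U hU hU' := by
    rw [← f.surjective.image_preimage (g ⁻¹' U), ← Set.preimage_comp]
    exact (QuasiCompact.isCompact_preimage (f := f ≫ g) U hU hU').image f.continuous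

section Square

variable (iX : X ⟶ X') (iS : S ⟶ S') (f : X ⟶ S) (f' : X' ⟶ S')
  [IsClosedImmersion iX] [Surjective iX] [IsClosedImmersion iS] [Surjective iS]
  (w : iX ≫ f' = f ≫ iS)

include w

omit [Surjective iS] in
theorem quasiCompact_iff : QuasiCompact f ↔ QuasiCompact f' := by
  constructor
  · intro _
    have : QuasiCompact (iX ≫ f') := w ▸ inferInstance
    exact quasiCompact_of_comp_surjective iX f'
  · intro _
    exact of_comp_mono f iS (w ▸ inferInstance)

omit [Surjective iS] in
theorem universallyClosed_iff : UniversallyClosed f ↔ UniversallyClosed f' := by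
  constructor
  · intro _
    have : UniversallyClosed (iX ≫ f') := w ▸ inferInstance
    exact UniversallyClosed.of_comp_surjective iX f'
  · intro _
    exact of_comp_mono f iS (w ▸ inferInstance)

omit [Surjective iS] in
theorem universallyInjective_iff : UniversallyInjective f ↔ UniversallyInjective f' := by
  constructor
  · intro _
    have : UniversallyInjective (f ≫ iS) := MorphismProperty.comp_mem _ _ _ ‹_› inferInstance
    have : UniversallyInjective (iX ≫ f') := w ▸ this
    exact universallyInjective_of_comp_surjective iX f'
  · intro _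
    exact of_comp_mono f iS (w ▸ MorphismProperty.comp_mem _ _ _ inferInstance ‹_›)

theorem universallyOpen_iff : UniversallyOpen f ↔ UniversallyOpen f' := by
  have := universallyOpen iS
  have := universallyOpen iX
  constructor
  · intro _
    have : UniversallyOpen (iX ≫ f') := w ▸ inferInstance
    exact universallyOpen_of_comp_surjective iX f'
  · intro _
    exact of_comp_mono f iS (w ▸ inferInstance)

omit [Surjective iS] in
theorem quasiSeparated_iff : QuasiSeparated f ↔ QuasiSeparated f' := by
  constructor
  · intro _
    have : QuasiSeparated (iX ≫ f') := w ▸ inferInstance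
    have e : iX ≫ pullback.diagonal f' = pullback.diagonal (iX ≫ f') ≫
        pullback.map (iX ≫ f') (iX ≫ f') f' f' iX iX (𝟙 _) (by simp) (by simp) := by
      refine pullback.hom_ext ?_ ?_
      · rw [Category.assoc, pullback.diagonal_fst, Category.comp_id, Category.assoc,
          pullback.map, pullback.lift_fst, pullback.diagonal_fst_assoc]
      · rw [Category.assoc, pullback.diagonal_snd, Category.comp_id, Category.assoc,
          pullback.map, pullback.lift_snd, pullback.diagonal_snd_assoc]
    have : QuasiCompact (pullback.map (iX ≫ f') (iX ≫ f') f' f' iX iX (𝟙 _) (by simp) (by simp)) :=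
      MorphismProperty.pullbackMap (P := @QuasiCompact) (inferInstance : QuasiCompact iX)
        (inferInstance : QuasiCompact iX) rfl rfl
    have : QuasiCompact (iX ≫ pullback.diagonal f') := e ▸ inferInstance
    exact ⟨quasiCompact_of_comp_surjective iX _⟩
  · intro _
    exact of_comp_mono f iS (w ▸ inferInstance)

omit [Surjective iS] in
theorem locallyQuasiFinite_iff [LocallyOfFiniteType f'] :
    LocallyQuasiFinite f ↔ LocallyQuasiFinite f' := by
  constructor
  · intro _
    have hc : LocallyQuasiFinite (iX ≫ f') := w ▸ inferInstance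
    rw [HasRingHomProperty.iff_appLE (P := @LocallyQuasiFinite)]
    intro V U e
    have : IsAffine V.1.toScheme := V.2
    have : IsAffine U.1.toScheme := U.2
    suffices h : LocallyQuasiFinite (f'.resLE V.1 U.1 e) by
      exact (RingHom.QuasiFinite.respectsIso.arrow_mk_iso_iff (arrowResLEAppIso f' V.1 U.1 e)).mp
        (HasRingHomProperty.iff_of_isAffine.mp h)
    have : IsAffine (iX ⁻¹ᵁ U.1).toScheme := U.2.preimage iX
    have : LocallyQuasiFinite ((iX ∣_ U.1 ≫ f'.resLE V.1 U.1 e) ≫ V.1.ι) := by
      simp only [Category.assoc, Scheme.Hom.resLE_comp_ι, morphismRestrict_ι_assoc]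
      infer_instance
    have := LocallyQuasiFinite.of_comp (iX ∣_ U.1 ≫ f'.resLE V.1 U.1 e) V.1.ι
    have hs : Surjective (iX ∣_ U.1) :=
      IsZariskiLocalAtTarget.restrict ‹Surjective iX› U.1
    refine .of_finite_preimage_singleton _ fun y => ?_
    rw [← hs.surj.image_preimage (f'.resLE V.1 U.1 e ⁻¹' {y})]
    exact ((iX ∣_ U.1 ≫ f'.resLE V.1 U.1 e).finite_preimage_singleton y).image _
  · intro _
    exact of_comp_mono f iS (w ▸ inferInstance)

end Square

end Groth.Agent.Thick.Topo
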