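import Groth.Agent.Thick.Ring
import Groth.Agent.Thick.Topo

/-!
# Thickenings: formally unramified morphisms, monomorphisms, immersions
-/

universe u

open AlgebraicGeometry CategoryTheory Limits MorphismProperty Opposite

namespace Groth.Agent.Thick.Unram

variable {X X' S S' : Scheme.{u}}

section

variable {iX : X ⟶ X'} {iS : S ⟶ S'} {f : X ⟶ S} {f' : X' ⟶ S'}

theorem app_surjective (i : S ⟶ S') [IsClosedImmersion i] {V : S'.Opens} (hV : IsAffineOpen V) :
    Function.Surjective (i.app V).hom :=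
  i.app_surjective V hV

theorem ker_app_le_nilradical (i : S ⟶ S') [Surjective i] {V : S'.Opens} (hV : IsAffineOpen V) :
    RingHom.ker (i.app V).hom ≤ nilradical Γ(S', V) := by
  intro a ha
  rw [mem_nilradical, Scheme.isNilpotent_iff_basicOpen_eq_bot_of_isCompact hV.isCompact]
  rw [eq_bot_iff]
  intro y hy
  obtain ⟨x, rfl⟩ := i.surjective y
  have : x ∈ i ⁻¹ᵁ S'.basicOpen a := hy
  rw [Scheme.preimage_basicOpen, show (i.app V) a = 0 from ha] at this
  simp at this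

theorem isNilpotent_ker_app (i : S ⟶ S') [QuasiCompact i] (h : IsNilpotent i.ker) {V : S'.Opens}
    (hV : IsAffineOpen V) : IsNilpotent (RingHom.ker (i.app V).hom) := by
  obtain ⟨n, hn⟩ := h
  refine ⟨n, ?_⟩
  have h1 := i.ker_apply ⟨V, hV⟩
  have h2 : (i.ker ^ n).ideal ⟨V, hV⟩ = ⊥ := by
    rw [hn]; rfl
  rw [Scheme.IdealSheafData.ideal_pow, Pi.pow_apply, h1] at h2
  exact h2

theorem isPushout_appLE [IsAffineHom iS] (hc : IsPullback iX f f' iS) {V : S'.Opens}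
    {U : X'.Opens} (hV : IsAffineOpen V) (hU : IsAffineOpen U) (e : U ≤ f' ⁻¹ᵁ V) :
    ∃ h' : iX ⁻¹ᵁ U ≤ f ⁻¹ᵁ (iS ⁻¹ᵁ V), IsPushout (f'.appLE V U e) (iS.app V)
      (iX.app U) (f.appLE (iS ⁻¹ᵁ V) (iX ⁻¹ᵁ U) h') := by
  have h' : iX ⁻¹ᵁ U ≤ f ⁻¹ᵁ (iS ⁻¹ᵁ V) := by
    rw [← Scheme.Hom.comp_preimage, ← hc.w, Scheme.Hom.comp_preimage]
    exact fun x hx => e hx
  refine ⟨h', ?_⟩
  have hUY : iX ⁻¹ᵁ U = iX ⁻¹ᵁ U ⊓ f ⁻¹ᵁ (iS ⁻¹ᵁ V) := (inf_eq_left.mpr h').symm
  have h := (isIso_pushoutSection_iff hc le_rfl e hUY).mp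
    (isIso_pushoutSection_of_isAffineOpen hc le_rfl e hUY hV (hV.preimage iS) hU)
  simpa [Scheme.Hom.app_eq_appLE] using h

theorem appLE_formallyUnramified [IsAffineHom iS] [FormallyUnramified f] {V : S'.Opens}
    {U : X'.Opens} (hV : IsAffineOpen V) (hU : IsAffineOpen U) (hc : IsPullback iX f f' iS)
    (h' : iX ⁻¹ᵁ U ≤ f ⁻¹ᵁ (iS ⁻¹ᵁ V)) :
    (f.appLE (iS ⁻¹ᵁ V) (iX ⁻¹ᵁ U) h').hom.FormallyUnramified :=
  have : IsAffineHom iX := MorphismProperty.of_isPullback hc.flip ‹IsAffineHom iS›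
  HasRingHomProperty.appLE @FormallyUnramified f ‹_› ⟨_, hV.preimage iS⟩ ⟨_, hU.preimage iX⟩ h'

theorem formallyUnramified_of_nilpotent [IsClosedImmersion iS] (hn : IsNilpotent iS.ker)
    (hc : IsPullback iX f f' iS) [FormallyUnramified f] : FormallyUnramified f' := by
  rw [HasRingHomProperty.iff_appLE (P := @FormallyUnramified)]
  intro V U e
  obtain ⟨h', h⟩ := isPushout_appLE hc V.2 U.2 e
  exact Ring.formallyUnramified_of_nilpotent h (app_surjective iS V.2)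
    (isNilpotent_ker_app iS hn V.2) (appLE_formallyUnramified V.2 U.2 hc h')

theorem formallyUnramified_of_locallyOfFiniteType [IsClosedImmersion iS] [Surjective iS]
    (hc : IsPullback iX f f' iS) [LocallyOfFiniteType f'] [FormallyUnramified f] :
    FormallyUnramified f' := by
  rw [HasRingHomProperty.iff_appLE (P := @FormallyUnramified)]
  intro V U e
  obtain ⟨h', h⟩ := isPushout_appLE hc V.2 U.2 e
  exact Ring.formallyUnramified_of_finiteType h (app_surjective iS V.2)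
    (ker_app_le_nilradical iS V.2)
    (HasRingHomProperty.appLE @LocallyOfFiniteType f' ‹_› V U e)
    (appLE_formallyUnramified V.2 U.2 hc h')

theorem locallyOfFiniteType_of_nilpotent [IsClosedImmersion iS] (hn : IsNilpotent iS.ker)
    (hc : IsPullback iX f f' iS) [LocallyOfFiniteType f] : LocallyOfFiniteType f' := by
  have : IsAffineHom iX := MorphismProperty.of_isPullback hc.flip (inferInstanceAs (IsAffineHom iS))
  rw [HasRingHomProperty.iff_appLE (P := @LocallyOfFiniteType)]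
  intro V U e
  obtain ⟨h', h⟩ := isPushout_appLE hc V.2 U.2 e
  exact Ring.finiteType_of_nilpotent h (app_surjective iS V.2) (isNilpotent_ker_app iS hn V.2)
    (HasRingHomProperty.appLE @LocallyOfFiniteType f ‹_› ⟨_, V.2.preimage iS⟩
      ⟨_, U.2.preimage iX⟩ h')

theorem mono_of_nilpotent [IsClosedImmersion iS] [Surjective iS] (hn : IsNilpotent iS.ker)
    (hc : IsPullback iX f f' iS) [Mono f] : Mono f' := by
  have := formallyUnramified_of_nilpotent hn hc
  constructor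
  intro T g₁ g₂ hg
  let p := pullback.fst (g₁ ≫ f') iS
  let q := pullback.snd (g₁ ≫ f') iS
  have hp : Surjective p := inferInstance
  have e0 : p ≫ g₁ = p ≫ g₂ := by
    have w₁ : (p ≫ g₁) ≫ f' = q ≫ iS := by rw [Category.assoc]; exact pullback.condition
    have w₂ : (p ≫ g₂) ≫ f' = q ≫ iS := by rw [Category.assoc, ← hg]; exact pullback.condition
    have : hc.lift (p ≫ g₁) q w₁ = hc.lift (p ≫ g₂) q w₂ := by
      rw [← cancel_mono f]; simp
    simpa using congr($this ≫ iX)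
  have hpts : ∀ x, g₁ x = g₂ x := fun x => by
    obtain ⟨y, rfl⟩ := hp.surj x
    rw [← Scheme.Hom.comp_apply, ← Scheme.Hom.comp_apply, e0]
  let P (W : T.Opens) := W.ι ≫ g₁ = W.ι ≫ g₂
  suffices h : ∀ x, ∃ W : T.Opens, x ∈ W ∧ P W by
    choose W hxW hW using h
    refine (T.openCoverOfIsOpenCover W ?_).hom_ext _ _ fun x => hW x
    exact eq_top_iff.mpr fun x _ => TopologicalSpace.Opens.mem_iSup.mpr ⟨x, hxW x⟩
  intro x
  obtain ⟨V, hV, hxV, -⟩ := exists_isAffineOpen_mem_and_subset (U := (⊤ : S'.Opens)) (x := f' (g₁ x)) trivial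
  obtain ⟨U, hU, hxU, hUV⟩ := exists_isAffineOpen_mem_and_subset (U := f' ⁻¹ᵁ V) (x := g₁ x) hxV
  obtain ⟨W, hW, hxW, hWU⟩ := exists_isAffineOpen_mem_and_subset (U := g₁ ⁻¹ᵁ U) (x := x) hxU
  refine ⟨W, hxW, ?_⟩
  have e₁ : W ≤ g₁ ⁻¹ᵁ U := hWU
  have e₂ : W ≤ g₂ ⁻¹ᵁ U := fun y hy => by
    change g₂ y ∈ U
    rw [← hpts]; exact hWU hy
  have eU : U ≤ f' ⁻¹ᵁ V := hUV
  have eW : W ≤ (g₁ ≫ f') ⁻¹ᵁ V := fun y hy => eU (e₁ hy)
  obtain ⟨h', h⟩ := isPushout_appLE (IsPullback.of_hasPullback (g₁ ≫ f') iS) hV hW eW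
  obtain ⟨-, hk⟩ := Ring.pushout_surjection h (app_surjective iS hV)
  have hnil : IsNilpotent (RingHom.ker (p.app W).hom) := by
    obtain ⟨n, hn⟩ := isNilpotent_ker_app iS hn hV
    exact ⟨n, by rw [hk, ← Ideal.map_pow, hn, Ideal.zero_eq_bot, Ideal.map_bot]; rfl⟩
  have hσ : g₁.appLE U W e₁ ≫ p.app W = g₂.appLE U W e₂ ≫ p.app W := by
    rw [Scheme.Hom.app_eq_appLE, Scheme.Hom.appLE_comp_appLE, Scheme.Hom.appLE_comp_appLE]
    congr 1
  let _ := (f'.appLE V U eU).hom.toAlgebra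
  let _ := ((g₁ ≫ f').appLE V W eW).hom.toAlgebra
  have : Algebra.FormallyUnramified Γ(S', V) Γ(X', U) :=
    HasRingHomProperty.appLE @FormallyUnramified f' ‹_› ⟨V, hV⟩ ⟨U, hU⟩ eU
  let σ : Γ(X', U) →ₐ[Γ(S', V)] Γ(T, W) := ⟨(g₁.appLE U W e₁).hom, fun r => by
    exact congr($(Scheme.Hom.appLE_comp_appLE g₁ f' V U W eU e₁).hom r)⟩
  let τ : Γ(X', U) →ₐ[Γ(S', V)] Γ(T, W) := ⟨(g₂.appLE U W e₂).hom, fun r => by
    have h1 := congr($(Scheme.Hom.appLE_comp_appLE g₂ f' V U W eU e₂).hom r)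
    simp only [← hg] at h1
    exact h1⟩
  have hστ : σ = τ :=
    Algebra.FormallyUnramified.ext' (p.app W).hom hnil σ τ fun a => congr($(hσ).hom a)
  have heq : g₁.appLE U W e₁ = g₂.appLE U W e₂ :=
    CommRingCat.hom_ext congr(($hστ).toRingHom)
  have : IsAffine U.toScheme := hU
  have h3 : g₁.resLE U W e₁ = g₂.resLE U W e₂ := by
    apply ext_of_isAffine
    rw [Scheme.Hom.appTop, Scheme.Hom.appTop, ← Scheme.Hom.appLE_eq_app,
      ← Scheme.Hom.appLE_eq_app, Scheme.Hom.resLE_appLE, Scheme.Hom.resLE_appLE]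
    have key : ∀ (U₂ : X'.Opens) (W₂ : T.Opens) (a : W₂ ≤ g₁ ⁻¹ᵁ U₂) (b : W₂ ≤ g₂ ⁻¹ᵁ U₂),
        U₂ = U → W₂ = W → g₁.appLE U₂ W₂ a = g₂.appLE U₂ W₂ b := by
      rintro U₂ W₂ a b rfl rfl; exact heq
    exact key _ _ _ _ U.ι_image_top W.ι_image_top
  change W.ι ≫ g₁ = W.ι ≫ g₂
  rw [← Scheme.Hom.resLE_comp_ι g₁ e₁, ← Scheme.Hom.resLE_comp_ι g₂ e₂, h3]

theorem mono_of_locallyOfFiniteType [IsClosedImmersion iX] [Surjective iX]
    [IsClosedImmersion iS] [Surjective iS] (hc : IsPullback iX f f' iS) [LocallyOfFiniteType f']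
    [Mono f] : Mono f' := by
  have : IsOpenImmersion (pullback.diagonal f) := inferInstance
  have := formallyUnramified_of_locallyOfFiniteType hc
  have := (Topo.universallyInjective_iff iX iS f f' hc.w).mp inferInstance
  have : Surjective (pullback.diagonal f') := (UniversallyInjective.iff_diagonal f').mp ‹_›
  rw [← pullback.isIso_diagonal_iff, isIso_iff_isOpenImmersion_and_surjective]
  exact ⟨inferInstance, ‹_›⟩

end

/-- Closed immersions pass through thickenings, given local finite type upstairs. -/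
theorem isClosedImmersion_of_mono (iX : X ⟶ X') (iS : S ⟶ S') (f : X ⟶ S) (f' : X' ⟶ S')
    [IsClosedImmersion iX] [Surjective iX] [IsClosedImmersion iS] [Surjective iS]
    (w : iX ≫ f' = f ≫ iS) [LocallyOfFiniteType f'] [Mono f'] [IsClosedImmersion f] :
    IsClosedImmersion f' := by
  rw [IsClosedImmersion.iff_isProper_and_mono]
  have := (Topo.universallyClosed_iff iX iS f f' w).mp inferInstance
  exact ⟨{}, ‹_›⟩

end Groth.Agent.Thick.Unram
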