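import Mathlib.Algebra.Category.Ring.Constructions
import Mathlib.RingTheory.Kaehler.TensorProduct
import Mathlib.RingTheory.Unramified.Basic
import Mathlib.RingTheory.Nakayama
import Mathlib.RingTheory.RingHom.Unramified
import Mathlib.RingTheory.Ideal.Quotient.Operations

/-!
# Base change of a ring map along a surjection with small kernel
-/

universe u

open CategoryTheory TensorProduct

namespace Groth.Agent.Thick.Ring

variable {A' B' A B : CommRingCat.{u}} {φ' : A' ⟶ B'} {π : A' ⟶ A} {ψ : B' ⟶ B} {φ : A ⟶ B}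

/-- The pushout of a surjection is surjective with kernel generated by the kernel. -/
theorem pushout_surjection (h : IsPushout φ' π ψ φ) (hπ : Function.Surjective π.hom) :
    Function.Surjective ψ.hom ∧ RingHom.ker ψ.hom = (RingHom.ker π.hom).map φ'.hom := by
  let K := (RingHom.ker π.hom).map φ'.hom
  let C := CommRingCat.of (B' ⧸ K)
  let q : B' ⟶ C := CommRingCat.ofHom (Ideal.Quotient.mk K)
  have hle : RingHom.ker π.hom ≤ RingHom.ker ((Ideal.Quotient.mk K).comp φ'.hom) := fun x hx =>
    Ideal.Quotient.eq_zero_iff_mem.mpr (Ideal.mem_map_of_mem φ'.hom hx)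
  let a : A ⟶ C := CommRingCat.ofHom
    (RingHom.liftOfSurjective π.hom hπ ⟨(Ideal.Quotient.mk K).comp φ'.hom, hle⟩)
  have hK : K ≤ RingHom.ker ψ.hom := by
    rw [Ideal.map_le_iff_le_comap]
    intro x hx
    have := congr($(h.w).hom x)
    simp only [CommRingCat.hom_comp, RingHom.comp_apply] at this
    simp only [Ideal.mem_comap, RingHom.mem_ker, this, RingHom.mem_ker.mp hx, map_zero]
  let v : C ⟶ B := CommRingCat.ofHom (Ideal.Quotient.lift K ψ.hom hK)
  have hw : φ' ≫ q = π ≫ a := by
    ext x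
    exact (π.hom.liftOfRightInverse_comp_apply _ (Function.rightInverse_surjInv hπ)
      ⟨(Ideal.Quotient.mk K).comp φ'.hom, hle⟩ x).symm
  let u : B ⟶ C := h.desc q a hw
  have hu : u ≫ v = 𝟙 B := by
    apply h.hom_ext
    · rw [h.inl_desc_assoc, Category.comp_id]; ext; rfl
    · rw [h.inr_desc_assoc, Category.comp_id]
      ext x
      obtain ⟨x, rfl⟩ := hπ x
      have : a.hom (π.hom x) = q.hom (φ'.hom x) := congr($(hw.symm).hom x)
      change v.hom (a.hom (π.hom x)) = _
      rw [this]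
      exact congr($(h.w).hom x)
  refine ⟨fun b => ?_, le_antisymm (fun x hx => ?_) hK⟩
  · obtain ⟨c, hc⟩ := Ideal.Quotient.mk_surjective (I := K) (u.hom b)
    refine ⟨c, ?_⟩
    have h2 : v.hom (u.hom b) = b := congr($(hu).hom b)
    rwa [← hc] at h2
  · have h1 : u.hom (ψ.hom x) = Ideal.Quotient.mk K x := congr($(h.inl_desc q a hw).hom x)
    rw [RingHom.mem_ker.mp hx, map_zero] at h1
    exact Ideal.Quotient.eq_zero_iff_mem.mp h1.symm

/-- Formal unramifiedness passes through a surjective base change `A' → A` if the module of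
differentials is detected modulo the kernel. -/
theorem subsingleton_kaehler (h : IsPushout φ' π ψ φ) (hπ : Function.Surjective π.hom)
    (hφ : φ.hom.FormallyUnramified) :
    letI := φ'.hom.toAlgebra
    (RingHom.ker ψ.hom) • (⊤ : Submodule B' Ω[B'⁄A']) = ⊤ := by
  let _ := φ'.hom.toAlgebra
  let _ := φ.hom.toAlgebra
  let _ := π.hom.toAlgebra
  let _ := ψ.hom.toAlgebra
  let _ : Algebra A' B := (π ≫ φ).hom.toAlgebra
  have : IsScalarTower A' A B := .of_algebraMap_eq' rfl
  have : IsScalarTower A' B' B := .of_algebraMap_eq' (congr($(h.w).hom)).symm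
  have : Algebra.IsPushout A' A B' B := (CommRingCat.isPushout_iff_isPushout).mp h.flip
  have : Algebra.FormallyUnramified A B := hφ
  let K := RingHom.ker ψ.hom
  have hs := (pushout_surjection h hπ).1
  have : Subsingleton (B ⊗[B'] Ω[B'⁄A']) :=
    (KaehlerDifferential.tensorKaehlerEquiv A' A B' B).toEquiv.subsingleton
  let e : (B' ⧸ K) ≃ₗ[B'] B :=
    (Ideal.quotientKerAlgEquivOfSurjective (f := Algebra.ofId B' B) hs).toLinearEquiv
  have : Subsingleton (Ω[B'⁄A'] ⧸ K • (⊤ : Submodule B' Ω[B'⁄A'])) :=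
    ((TensorProduct.quotTensorEquivQuotSMul Ω[B'⁄A'] K).symm ≪≫ₗ
      TensorProduct.congr e (.refl _ _)).toEquiv.subsingleton
  exact Submodule.Quotient.subsingleton_iff.mp this

theorem formallyUnramified_of_nilpotent (h : IsPushout φ' π ψ φ) (hπ : Function.Surjective π.hom)
    (hI : IsNilpotent (RingHom.ker π.hom)) (hφ : φ.hom.FormallyUnramified) :
    φ'.hom.FormallyUnramified := by
  let _ := φ'.hom.toAlgebra
  obtain ⟨n, hn⟩ := hI
  have hK : RingHom.ker ψ.hom ^ n = ⊥ := by
    rw [(pushout_surjection h hπ).2, ← Ideal.map_pow, hn, Ideal.zero_eq_bot, Ideal.map_bot]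
  have hM := subsingleton_kaehler h hπ hφ
  have : ∀ k, RingHom.ker ψ.hom ^ k • (⊤ : Submodule B' Ω[B'⁄A']) = ⊤ := fun k => by
    induction k with
    | zero => simp [Ideal.one_eq_top, Submodule.top_smul]
    | succ k ih => rw [pow_succ', Submodule.mul_smul, ih, hM]
  have h0 := this n
  rw [hK, Submodule.bot_smul] at h0
  exact ⟨(Submodule.subsingleton_iff B').mp (subsingleton_of_bot_eq_top h0)⟩

theorem formallyUnramified_of_finiteType (h : IsPushout φ' π ψ φ) (hπ : Function.Surjective π.hom)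
    (hI : RingHom.ker π.hom ≤ nilradical A') (hft : φ'.hom.FiniteType)
    (hφ : φ.hom.FormallyUnramified) :
    φ'.hom.FormallyUnramified := by
  let _ := φ'.hom.toAlgebra
  have : Algebra.FiniteType A' B' := hft
  have hK : RingHom.ker ψ.hom ≤ (⊥ : Ideal B').jacobson := by
    rw [(pushout_surjection h hπ).2, Ideal.map_le_iff_le_comap]
    intro x hx
    exact Ideal.radical_le_jacobson ((mem_nilradical.mp (hI hx)).map φ'.hom)
  have h0 : (⊤ : Submodule B' Ω[B'⁄A']) = ⊥ :=
    Submodule.eq_bot_of_le_smul_of_le_jacobson_bot _ _ Module.Finite.fg_top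
      (subsingleton_kaehler h hπ hφ).ge hK
  exact ⟨(Submodule.subsingleton_iff B').mp (subsingleton_of_bot_eq_top h0.symm)⟩

/-- Finite type passes through a surjective base change `A' → A` with nilpotent kernel. -/
theorem finiteType_of_nilpotent (h : IsPushout φ' π ψ φ) (hπ : Function.Surjective π.hom)
    (hI : IsNilpotent (RingHom.ker π.hom)) (hφ : φ.hom.FiniteType) : φ'.hom.FiniteType := by
  classical
  let _ := φ'.hom.toAlgebra
  let _ : Algebra A' B := (φ' ≫ ψ).hom.toAlgebra
  obtain ⟨hs, hk⟩ := pushout_surjection h hπ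
  let g : B' →ₐ[A'] B := ⟨ψ.hom, fun _ => rfl⟩
  have : Algebra.FiniteType A' B := by
    change (φ' ≫ ψ).hom.FiniteType
    rw [h.w]
    exact hφ.comp (RingHom.FiniteType.of_surjective _ hπ)
  obtain ⟨t, ht⟩ := this.out
  choose l hl using hs
  let S := Algebra.adjoin A' ((t.image l : Finset B') : Set B')
  have hS : S.map g = ⊤ := by
    rw [← Algebra.adjoin_image, ← ht]
    congr 1
    ext x
    simp [g, hl]
  let M := Subalgebra.toSubmodule S
  have h1 : ∀ b : B', ∃ s ∈ M, b - s ∈ (RingHom.ker π.hom).map φ'.hom := fun b => by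
    obtain ⟨s, hs', e⟩ : g b ∈ S.map g := hS ▸ Algebra.mem_top
    refine ⟨s, hs', ?_⟩
    rw [← hk, RingHom.mem_ker, map_sub, sub_eq_zero]
    exact e.symm
  have h2 : (⊤ : Submodule A' B') ≤ M ⊔ RingHom.ker π.hom • ⊤ := fun b _ => by
    obtain ⟨s, hs', hb⟩ := h1 b
    rw [Submodule.mem_sup]
    refine ⟨s, hs', b - s, ?_, by abel⟩
    rw [Ideal.smul_top_eq_map]
    exact hb
  have h3 : ∀ k : ℕ, (⊤ : Submodule A' B') ≤ M ⊔ RingHom.ker π.hom ^ k • ⊤ := fun k => by
    induction k with
    | zero => simp [Ideal.one_eq_top, Ideal.map_top]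
    | succ k ih =>
      refine ih.trans (sup_le le_sup_left ?_)
      refine (smul_mono_right _ h2).trans ?_
      rw [Submodule.smul_sup, ← Submodule.mul_smul, ← pow_succ]
      exact sup_le_sup_right Submodule.smul_le_right _
  obtain ⟨n, hn⟩ := hI
  have h4 := h3 n
  rw [hn, Ideal.zero_eq_bot, Submodule.bot_smul, sup_bot_eq] at h4
  exact ⟨⟨t.image l, eq_top_iff.mpr fun b _ => h4 Submodule.mem_top⟩⟩

end Groth.Agent.Thick.Ring
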